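import Cfsg.Agent.Lib.Lie.SLUniv.Basic
import Cfsg.Agent.Lib.Lie.SL2Rel
import Mathlib.FieldTheory.Finite.Basic

/-!
# Central extensions of `SL(2, q)`, `q` different from `4` and `9`

For `q ≥ 5` the root elements lift as commutators with a torus element; for `q = 2, 3` as elements
of order `q`, the kernel of a stem extension having order prime to `q`.
-/

set_option autoImplicit false

namespace CfsgLib.Lie.SLUniv

open Matrix CfsgLib.Lie.SL2Rel CfsgLib.Lie.SL2Rel.Fam
open scoped commutatorElement MatrixGroups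

variable {F : Type*} [Field F]

/-- the diagonal element -/
def dg (a : Fˣ) : SL(2, F) := ⟨!![(a : F), 0; 0, ((a⁻¹ : Fˣ) : F)], by simp [det_fin_two]⟩

theorem coe_upper (t : F) : (upper t : SL(2, F)).1 = !![1, t; 0, 1] := rfl
theorem coe_lower (t : F) : (lower t : SL(2, F)).1 = !![1, 0; t, 1] := rfl
theorem coe_wel : (wel : SL(2, F)).1 = !![0, -1; 1, 0] := rfl
theorem coe_dg (a : Fˣ) : (dg a).1 = !![(a : F), 0; 0, ((a⁻¹ : Fˣ) : F)] := rfl

theorem sl2_ext {a b : SL(2, F)} (h : a.1 = b.1) : a = b := Subtype.ext h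

theorem upper_add (t u : F) : upper (t + u) = upper t * upper u := by
  apply sl2_ext
  rw [val_mul', coe_upper, coe_upper, coe_upper]
  ext i j
  fin_cases i <;> fin_cases j <;> simp [Matrix.mul_apply, Fin.sum_univ_two, add_comm]

theorem upper_zero : upper (0 : F) = 1 := by
  apply sl2_ext
  ext i j
  fin_cases i <;> fin_cases j <;> simp [coe_upper]

theorem upper_inv (t : F) : (upper t)⁻¹ = upper (-t) := by
  rw [inv_eq_iff_mul_eq_one, ← upper_add, add_neg_cancel, upper_zero]

theorem dg_upper (a : Fˣ) (t : F) : dg a * upper t * (dg a)⁻¹ = upper ((a : F) ^ 2 * t) := by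
  refine mul_inv_eq_iff_eq_mul.2 (sl2_ext ?_)
  rw [val_mul', val_mul', coe_dg, coe_upper, coe_upper]
  ext i j
  fin_cases i <;> fin_cases j <;> simp [Matrix.mul_apply, Fin.sum_univ_two]
  field_simp

theorem dg_comm (a b : Fˣ) : dg a * dg b = dg b * dg a := by
  apply sl2_ext
  rw [val_mul', val_mul', coe_dg, coe_dg]
  ext i j
  fin_cases i <;> fin_cases j <;> simp [Matrix.mul_apply, Fin.sum_univ_two, mul_comm]

theorem wel_upper (t : F) : wel * upper t * wel⁻¹ = lower (-t) := by
  refine mul_inv_eq_iff_eq_mul.2 (sl2_ext ?_)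
  rw [val_mul', val_mul', coe_wel, coe_upper, coe_lower]
  ext i j
  fin_cases i <;> fin_cases j <;> simp [Matrix.mul_apply, Fin.sum_univ_two]

theorem nword_eq {t : F} (ht : t ≠ 0) :
    upper t * lower (-t⁻¹) * upper t = wel * dg (Units.mk0 (-t⁻¹) (by simpa using ht)) := by
  apply sl2_ext
  rw [val_mul', val_mul', val_mul', coe_upper, coe_lower, coe_wel, coe_dg]
  ext i j
  fin_cases i <;> fin_cases j <;> simp [Matrix.mul_apply, Fin.sum_univ_two, ht]

/-- `SL(2, F)` is generated by the two root subgroups -/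
theorem sl2_hom_ext {H : Type*} [Group H] {f g : SL(2, F) →* H} (hu : ∀ t, f (upper t) = g (upper t))
    (hl : ∀ t, f (lower t) = g (lower t)) : f = g := by
  refine MonoidHom.ext fun x => ?_
  refine mem_gens (P := fun x => f x = g x) (fun a b ha hb => by rw [map_mul, map_mul, ha, hb]) hu ?_ x
  have h := nword_eq (F := F) one_ne_zero
  have e : wel = (upper (-(1 : F)) * lower 1 * upper (-(1 : F)) : SL(2, F)) := by
    apply sl2_ext
    rw [val_mul', val_mul', coe_upper, coe_lower, coe_wel]
    ext i j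
    fin_cases i <;> fin_cases j <;> simp [Matrix.mul_apply, Fin.sum_univ_two]
  rw [e, map_mul, map_mul, map_mul, map_mul, hu, hl]

variable {P : Type*} [Group P] {p : P →* SL(2, F)}

/-- a section from an additive lift equivariant under the torus -/
theorem section_of_lift (hp : Function.Surjective p) (hc : p.ker ≤ Subgroup.center P) [Fintype F]
    (X : F → P) (hX : ∀ t, p (X t) = upper t) (hadd : ∀ t u, X (t + u) = X t * X u)
    (heq : ∀ (a : Fˣ) (q : P), p q = dg a → ∀ t, q * X t * q⁻¹ = X ((a : F) ^ 2 * t)) :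
    ∃ s : SL(2, F) →* P, p.comp s = MonoidHom.id _ := by
  obtain ⟨W, hW⟩ := hp wel
  let Y : F → P := fun t => W * X (-t) * W⁻¹
  have hY : ∀ t, p (Y t) = lower t := fun t => by
    simp only [Y, map_mul, map_inv, hW, hX, wel_upper, neg_neg]
  let Fm : Fam F P :=
    { x := X
      y := Y
      x_add := hadd
      y_add := fun a b => by
        simp only [Y, neg_add, hadd]
        group
      rel := fun t u ht => by
        obtain ⟨q, hq⟩ := hp (dg (Units.mk0 (-t⁻¹) (by simpa using ht)))
        have e : p (X t * Y (-t⁻¹) * X t) = p (W * q) := by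
          simp only [map_mul, hX, hY, hW, hq]
          rw [nword_eq ht]
        rw [conj_congr hc e, show W * q * X u * (W * q)⁻¹ = W * (q * X u * q⁻¹) * W⁻¹ by group,
          heq _ q hq]
        simp only [Y, Units.val_mk0]
        ring_nf }
  refine ⟨Fm.hom Fm.mult_of_finite, sl2_hom_ext (fun t => ?_) fun t => ?_⟩
  · rw [MonoidHom.comp_apply, Fam.hom_upper]; exact hX t
  · rw [MonoidHom.comp_apply, Fam.hom_lower]; exact hY t

/-- the lifts of the root elements commute -/
def SelfComm (p : P →* SL(2, F)) : Prop :=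
  ∀ (t u : F) (A B : P), p A = upper t → p B = upper u → Commute A B

theorem selfComm_of_prime (hp : Function.Surjective p) (hc : p.ker ≤ Subgroup.center P)
    (hn : ∀ x : F, ∃ n : ℕ, (n : F) = x) : SelfComm p := by
  intro t u A B hA hB
  obtain ⟨c, hc'⟩ := hp (upper 1)
  have hpow : ∀ n : ℕ, p (c ^ n) = upper (n : F) := by
    intro n
    induction n with
    | zero => rw [pow_zero, map_one, Nat.cast_zero, upper_zero]
    | succ n ih => rw [pow_succ, map_mul, ih, hc', Nat.cast_succ, upper_add]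
  obtain ⟨n, rfl⟩ := hn t
  obtain ⟨m, rfl⟩ := hn u
  exact commute_congr hc (hA.trans (hpow n).symm) (hB.trans (hpow m).symm)
    (Commute.pow_pow (Commute.refl c) n m)

theorem selfComm_of_squares (hp : Function.Surjective p) (hc : p.ker ≤ Subgroup.center P) {a b : Fˣ}
    (hab : 1 + (a : F) ^ 2 = (b : F) ^ 2) (h3 : (a : F) ^ 4 + (a : F) ^ 2 + 1 ≠ 0) : SelfComm p := by
  choose L hL using fun t : F => hp (upper t)
  let B : F → F → P := fun t u => ⁅L t, L u⁆
  have hcomm : ∀ t u : F, Commute (upper t) (upper u) := fun t u => by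
    show _ * _ = _ * _
    rw [← upper_add, ← upper_add, add_comm]
  have hcen : ∀ t u, B t u ∈ Subgroup.center P := fun t u =>
    comm_central hc (by rw [hL, hL]; exact hcomm t u)
  have hB : ∀ {t u : F} {x y : P}, p x = upper t → p y = upper u → ⁅x, y⁆ = B t u :=
    fun hx hy => comm_congr hc (hx.trans (hL _).symm) (hy.trans (hL _).symm)
  have addR : ∀ t u v, B t (u + v) = B t u * B t v := fun t u v => by
    rw [← hB (hL t) (y := L u * L v) (by rw [map_mul, hL, hL, upper_add])]
    have hz := Subgroup.mem_center_iff.1 (hcen t v) (L u)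
    calc ⁅L t, L u * L v⁆ = B t u * (L u * B t v * (L u)⁻¹) := by
          simp only [B, commutatorElement_def]; group
      _ = _ := by rw [hz, mul_inv_cancel_right]
  have anti : ∀ t u, B t u = (B u t)⁻¹ := fun t u => (commutatorElement_inv (L u) (L t)).symm
  have addL : ∀ t u v, B (t + u) v = B t v * B u v := fun t u v => by
    rw [anti, addR, _root_.mul_inv_rev, ← anti, ← anti]
    exact Subgroup.mem_center_iff.1 (hcen t v) _
  have inv : ∀ (c : Fˣ) (t u : F), B ((c : F) ^ 2 * t) ((c : F) ^ 2 * u) = B t u := by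
    intro c t u
    obtain ⟨q, hq⟩ := hp (dg c)
    rw [← hB (x := q * L t * q⁻¹) (y := q * L u * q⁻¹)]
    · rw [← conjugate_commutatorElement, Subgroup.mem_center_iff.1 (hcen t u) q, mul_inv_cancel_right]
    · rw [map_mul, map_mul, map_inv, hq, hL, dg_upper]
    · rw [map_mul, map_mul, map_inv, hq, hL, dg_upper]
  set x : F := (a : F) ^ 2 with hx
  have key : ∀ t u, B t (x * u) * B (x * t) u * B t u = 1 := by
    intro t u
    have h := inv b t u
    rw [← hab, add_mul, add_mul, one_mul, one_mul, addL, addR, addR, inv a t u] at h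
    rw [mul_assoc, mul_eq_left] at h
    rw [mul_assoc]
    exact h
  have key2 : ∀ t u, B ((x ^ 2 + x + 1) * t) u = 1 := by
    intro t u
    have h := key (x * t) u
    rw [inv a] at h
    rw [show (x ^ 2 + x + 1) * t = x * (x * t) + x * t + t by ring, addL, addL]
    rw [← h]
    have e := Subgroup.mem_center_iff.1 (hcen t u) (B (x * (x * t)) u * B (x * t) u)
    rw [e, mul_assoc]
  intro t u A B' hA hB'
  have h4 : x ^ 2 + x + 1 ≠ 0 := by
    rw [hx, ← pow_mul]
    exact h3
  rw [← commutatorElement_eq_one_iff_commute, hB hA hB', ← mul_div_cancel₀ t h4, key2]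

/-- the section when the lifts commute -/
theorem section_of_selfComm (hp : Function.Surjective p) (hc : p.ker ≤ Subgroup.center P) [Fintype F]
    (hs : SelfComm p) (hq : ∃ a : Fˣ, (a : F) ^ 2 ≠ 1) :
    ∃ s : SL(2, F) →* P, p.comp s = MonoidHom.id _ := by
  obtain ⟨a, ha⟩ := hq
  obtain ⟨A, hA⟩ := hp (dg a)
  choose L hL using fun t : F => hp (upper t)
  set c : F := (a : F) ^ 2 - 1 with hc'
  have h0 : c ≠ 0 := sub_ne_zero.2 ha
  let X : F → P := fun t => ⁅A, L (t / c)⁆
  have hX : ∀ t, p (X t) = upper t := fun t => by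
    rw [map_commutatorElement, hA, hL, commutatorElement_def, dg_upper, upper_inv, ← upper_add]
    congr 1
    rw [hc'] at h0 ⊢
    field_simp
    ring
  have heq : ∀ (b : Fˣ) (q : P), p q = dg b → ∀ t, q * X t * q⁻¹ = X ((b : F) ^ 2 * t) := by
    intro b q hq t
    simp only [X]
    rw [conjugate_commutatorElement]
    refine comm_congr hc ?_ ?_ <;> simp only [map_mul, map_inv, hq, hA, hL]
    · rw [dg_comm, mul_inv_cancel_right]
    · rw [dg_upper, mul_div_assoc]
  refine section_of_lift hp hc X hX (fun t u => ?_) heq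
  have e : X (t + u) = ⁅A, L (t / c) * L (u / c)⁆ :=
    comm_congr hc rfl (by rw [map_mul, hL, hL, hL, ← upper_add, add_div])
  have hcm : Commute (L (t / c)) (X u) := hs (t / c) u _ _ (hL _) (hX u)
  rw [e, show ⁅A, L (t / c) * L (u / c)⁆ = X t * (L (t / c) * X u * (L (t / c))⁻¹) by
    simp only [X, commutatorElement_def]; group, hcm.eq, mul_inv_cancel_right]

/-- a central element killed by transfer into an abelian Sylow subgroup -/
theorem not_dvd_card_stem_ker {Γ Q : Type*} [Group Γ] [Finite Γ] [Group Q] [Finite Q] {τ : Γ →* Q}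
    (hτ : Cfsg.IsStemExtension τ) {ℓ : ℕ} [hℓ : Fact ℓ.Prime]
    (hQ : ∀ S : Sylow ℓ Q, IsCyclic (S : Subgroup Q)) : ¬ ℓ ∣ Nat.card τ.ker := by
  intro hd
  obtain ⟨z, hz⟩ := exists_prime_orderOf_dvd_card' ℓ hd
  have hzc : (z : Γ) ∈ Subgroup.center Γ := hτ.2.1 z.2
  obtain ⟨S⟩ : Nonempty (Sylow ℓ Γ) := inferInstance
  have hzS : (z : Γ) ∈ (S : Subgroup Γ) := by
    have hpz : IsPGroup ℓ (Subgroup.zpowers (z : Γ)) :=
      IsPGroup.of_card (n := 1) (by rw [Nat.card_zpowers, pow_one, Subgroup.orderOf_coe, hz])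
    obtain ⟨T, hT⟩ := hpz.exists_le_sylow
    obtain ⟨g, rfl⟩ := MulAction.exists_smul_eq Γ T S
    have h1 : (z : Γ) ∈ (T : Subgroup Γ) := hT (Subgroup.mem_zpowers _)
    rw [Sylow.smul_def, Sylow.pointwise_smul_def, Subgroup.mem_pointwise_smul_iff_inv_smul_mem]
    have : (MulAut.conj g)⁻¹ • (z : Γ) = z := by
      rw [← map_inv, MulAut.smul_def, MulAut.conj_apply]
      rw [Subgroup.mem_center_iff.1 hzc g⁻¹, mul_inv_cancel_right]
    rwa [this]
  haveI : IsCyclic ((S : Subgroup Γ).map τ) := by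
    have hp' : IsPGroup ℓ ((S : Subgroup Γ).map τ) := S.isPGroup'.map τ
    obtain ⟨T, hT⟩ := hp'.exists_le_sylow
    haveI := hQ T
    exact isCyclic_of_injective (Subgroup.inclusion hT) (Subgroup.inclusion_injective hT)
  let f : (S : Subgroup Γ) →* ((S : Subgroup Γ).map τ) := τ.subgroupMap _
  letI : CommGroup (S : Subgroup Γ) :=
    { (inferInstance : Group (S : Subgroup Γ)) with
      mul_comm := fun x y => commutative_of_cyclic_center_quotient f (fun w hw => by
        refine Subgroup.mem_center_iff.2 fun v => Subtype.ext ?_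
        exact Subgroup.mem_center_iff.1 (hτ.2.1 (congrArg Subtype.val hw)) _) x y }
  haveI : (S : Subgroup Γ).FiniteIndex := inferInstance
  let V : Γ →* (S : Subgroup Γ) := MonoidHom.transfer (MonoidHom.id _)
  have hV : V z = 1 := Abelianization.commutator_subset_ker V (hτ.2.2 z.2)
  have hpow : (z : Γ) ^ (S : Subgroup Γ).index = 1 := by
    have e : ∀ (k : ℕ) (g₀ : Γ), g₀⁻¹ * (z : Γ) ^ k * g₀ ∈ (S : Subgroup Γ) →
        g₀⁻¹ * (z : Γ) ^ k * g₀ = (z : Γ) ^ k := fun k g₀ _ => by
      rw [Subgroup.mem_center_iff.1 (pow_mem hzc k) g₀⁻¹, inv_mul_cancel_right]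
    have h2 := MonoidHom.transfer_eq_pow (MonoidHom.id (S : Subgroup Γ)) (z : Γ) e
    simp only [MonoidHom.id_apply] at h2
    have h3 := hV
    simp only [V] at h3
    rw [h2] at h3
    exact congrArg Subtype.val h3
  have h1 : orderOf (z : Γ) ∣ (S : Subgroup Γ).index := orderOf_dvd_of_pow_eq_one hpow
  rw [Subgroup.orderOf_coe, hz] at h1
  exact S.not_dvd_index h1

end CfsgLib.Lie.SLUniv
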