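import Cfsg.Agent.Lib.Lie.SLUniv.SLn
import Cfsg.Agent.Lib.Lie.SLUniv.SL2
import Cfsg.Agent.Lib.Classical.SLBasic

/-!
# The Schur multipliers of `SL_n(q)` and `PSL_n(q)`
-/

set_option autoImplicit false

namespace CfsgLib.Lie.SLUniv

open Matrix CfsgLib.Lie.SL2Rel CfsgLib.Lie.SL2Rel.Fam Polynomial
open scoped commutatorElement MatrixGroups

variable {F : Type*} [Field F] [Fintype F]

/-- two consecutive squares away from the roots of `x² + x + 1` -/
theorem exists_square_pair (hodd : (2 : F) ≠ 0) (hq : 13 < Fintype.card F) :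
    ∃ a b : Fˣ, 1 + (a : F) ^ 2 = (b : F) ^ 2 ∧ (a : F) ^ 4 + (a : F) ^ 2 + 1 ≠ 0 := by
  classical
  set f : F[X] :=
    X * (X ^ 4 - 1) * ((X ^ 2 - 1) ^ 4 + C 4 * X ^ 2 * (X ^ 2 - 1) ^ 2 + C 16 * X ^ 4) with hf
  have hdeg : f.natDegree ≤ 13 := by rw [hf]; compute_degree!
  have hne : f ≠ 0 := by
    intro h
    have h1 := congrArg (fun g => Polynomial.coeff g 1) h
    simp only [hf, mul_assoc, Polynomial.coeff_X_mul, Polynomial.coeff_zero,
      Polynomial.coeff_zero_eq_eval_zero] at h1
    simp at h1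
  obtain ⟨s, hs⟩ : ∃ s : F, f.eval s ≠ 0 := by
    by_contra hc
    push Not at hc
    have hsub : (Finset.univ : Finset F) ⊆ f.roots.toFinset := fun s _ => by
      rw [Multiset.mem_toFinset, Polynomial.mem_roots hne]
      exact hc s
    have := ((Finset.card_le_card hsub).trans (Multiset.toFinset_card_le _)).trans
      (Polynomial.card_roots' f)
    rw [Finset.card_univ] at this
    omega
  simp only [hf, Polynomial.eval_mul, Polynomial.eval_add, Polynomial.eval_sub, Polynomial.eval_pow,
    Polynomial.eval_X, Polynomial.eval_one, Polynomial.eval_C, mul_ne_zero_iff] at hs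
  obtain ⟨⟨hs0, hs4⟩, hg⟩ := hs
  have h4 : (s ^ 2 - 1) * (s ^ 2 + 1) ≠ 0 := fun e => hs4 (by linear_combination e)
  obtain ⟨hm, hpl⟩ := mul_ne_zero_iff.1 h4
  have hl : (s - s⁻¹) / 2 ≠ 0 := by
    refine div_ne_zero (fun e => hm ?_) hodd
    have : (s - s⁻¹) * s = 0 := by rw [e, zero_mul]
    field_simp at this
    linear_combination this
  have hr : (s + s⁻¹) / 2 ≠ 0 := by
    refine div_ne_zero (fun e => hpl ?_) hodd
    have : (s + s⁻¹) * s = 0 := by rw [e, zero_mul]
    field_simp at this
    linear_combination this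
  refine ⟨Units.mk0 _ hl, Units.mk0 _ hr, ?_, fun e => hg ?_⟩
  · simp only [Units.val_mk0]
    field_simp
    ring
  · simp only [Units.val_mk0] at e
    field_simp at e
    linear_combination e

theorem exists_sq_ne_one (hq : 3 < Fintype.card F) : ∃ a : Fˣ, (a : F) ^ 2 ≠ 1 := by
  obtain ⟨a, ha⟩ := exists_unit_pow_ne (F := F) (m := 2) (fun h => by
    have := Nat.le_of_dvd two_pos h
    omega)
  exact ⟨a, fun e => ha (Units.ext (by rw [Units.val_pow_eq_pow_val, e, Units.val_one]))⟩

theorem selfComm_of_card {P : Type*} [Group P] {p : P →* SL(2, F)} (hp : Function.Surjective p)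
    (hc : p.ker ≤ Subgroup.center P) (h4 : Fintype.card F ≠ 4) (h9 : Fintype.card F ≠ 9) :
    SelfComm p := by
  obtain ⟨ℓ, f, hℓ, -, hcard⟩ : ∃ ℓ f : ℕ, ℓ.Prime ∧ 0 < f ∧ Fintype.card F = ℓ ^ f := by
    obtain ⟨n, hr, e⟩ := FiniteField.card F (ringChar F)
    exact ⟨_, _, hr, n.pos, e⟩
  by_cases hprime : (Fintype.card F).Prime
  · refine selfComm_of_prime hp hc fun x => ?_
    haveI := Fact.mk hprime
    haveI : CharP F (Fintype.card F) := charP_of_card_eq_prime rfl
    have hb : Function.Bijective (ZMod.castHom (dvd_refl (Fintype.card F)) F) := by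
      rw [Fintype.bijective_iff_injective_and_card]
      exact ⟨(ZMod.castHom _ _).injective, by rw [ZMod.card]⟩
    obtain ⟨a, ha⟩ := hb.2 x
    exact ⟨a.val, by rw [← ha, ZMod.castHom_apply, ZMod.cast_eq_val]⟩
  have hf2 : 2 ≤ f := by
    rcases f with _ | _ | f
    · have h1 : Fintype.card F = 1 := by rw [hcard, pow_zero]
      have := Fintype.one_lt_card (α := F); omega
    · exact absurd (by rw [hcard, zero_add, pow_one]; exact hℓ) hprime
    · omega
  haveI := Fact.mk hℓ
  haveI : CharP F ℓ := by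
    obtain ⟨n, hr, e⟩ := FiniteField.card F (ringChar F)
    have : ringChar F = ℓ := by
      have h1 : ringChar F ∣ ℓ ^ f := hcard ▸ e ▸ dvd_pow_self _ n.ne_zero
      exact (Nat.prime_dvd_prime_iff_eq hr hℓ).1 (hr.dvd_of_dvd_pow h1)
    exact this ▸ ringChar.charP F
  by_cases h2 : ℓ = 2
  · subst h2
    have hf3 : 3 ≤ f := by
      rcases eq_or_lt_of_le hf2 with e | e
      · exact absurd (by rw [hcard, ← e]; rfl) h4
      · exact e
    have h8 : 4 < Fintype.card F := by
      have := Nat.pow_le_pow_right two_pos hf3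
      rw [hcard]; omega
    classical
    obtain ⟨x, hx⟩ : ∃ x : F, x * (1 + x) * (x ^ 2 + x + 1) ≠ 0 := by
      by_contra hc'
      push Not at hc'
      let g : F[X] := X * (1 + X) * (X ^ 2 + X + 1)
      have hg : g.natDegree ≤ 4 := by simp only [g]; compute_degree!
      have hne : g ≠ 0 := by
        intro h
        have h1 := congrArg (fun g => Polynomial.coeff g 1) h
        simp only [g, mul_assoc, Polynomial.coeff_X_mul, Polynomial.coeff_zero,
          Polynomial.coeff_zero_eq_eval_zero] at h1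
        simp at h1
      have hsub : (Finset.univ : Finset F) ⊆ g.roots.toFinset := fun s _ => by
        rw [Multiset.mem_toFinset, Polynomial.mem_roots hne]
        simpa [g] using hc' s
      have := ((Finset.card_le_card hsub).trans (Multiset.toFinset_card_le _)).trans
        (Polynomial.card_roots' g)
      rw [Finset.card_univ] at this
      omega
    rw [mul_ne_zero_iff, mul_ne_zero_iff] at hx
    obtain ⟨⟨hx0, hx1⟩, hx2⟩ := hx
    have hchar : ringChar F = 2 := ringChar.eq F 2
    obtain ⟨a, ha⟩ := FiniteField.isSquare_of_char_two hchar x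
    obtain ⟨b, hb⟩ := FiniteField.isSquare_of_char_two hchar (1 + x)
    have ha0 : a ≠ 0 := fun e => hx0 (by rw [ha, e, zero_mul])
    have hb0 : b ≠ 0 := fun e => hx1 (by rw [hb, e, zero_mul])
    refine selfComm_of_squares hp hc (a := Units.mk0 a ha0) (b := Units.mk0 b hb0) ?_ ?_
    · rw [Units.val_mk0, Units.val_mk0, sq, ← ha, sq, ← hb]
    · rw [Units.val_mk0, show a ^ 4 = (a * a) ^ 2 by ring, sq a, ← ha]
      exact hx2
  · have h3 : 3 ≤ ℓ := by have := hℓ.two_le; omega
    have hodd : (2 : F) ≠ 0 := by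
      intro e
      have := (CharP.cast_eq_zero_iff F ℓ 2).1 (by exact_mod_cast e)
      have := Nat.le_of_dvd two_pos this
      omega
    have hbig : 13 < Fintype.card F := by
      rw [hcard]
      rcases eq_or_lt_of_le h3 with e | e
      · subst e
        rcases eq_or_lt_of_le hf2 with e' | e'
        · exact absurd (by rw [hcard, ← e']; rfl) h9
        · have := Nat.pow_le_pow_right (n := 3) (by omega) (show 3 ≤ f from e')
          omega
      · have h5 : 5 ≤ ℓ := by
          rcases eq_or_lt_of_le (show 4 ≤ ℓ from e) with e' | e'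
          · exact absurd (e' ▸ hℓ) (by norm_num)
          · exact e'
        have := Nat.pow_le_pow_left h5 2
        have := Nat.pow_le_pow_right (n := ℓ) (by omega) hf2
        omega
    obtain ⟨a, b, hab, h⟩ := exists_square_pair hodd hbig
    exact selfComm_of_squares hp hc hab h

/-- every central extension splits -/
theorem exists_section_sl2 {P : Type*} [Group P] (p : P →* SL(2, F)) (hp : Function.Surjective p)
    (hc : p.ker ≤ Subgroup.center P) (hq : 3 < Fintype.card F) (h4 : Fintype.card F ≠ 4)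
    (h9 : Fintype.card F ≠ 9) : ∃ s : SL(2, F) →* P, p.comp s = MonoidHom.id _ :=
  section_of_selfComm hp hc (selfComm_of_card hp hc h4 h9) (exists_sq_ne_one hq)

/-- stem extensions split over two and three elements -/
theorem exists_section_small {P : Type*} [Group P] [Finite P] (p : P →* SL(2, F))
    (hτ : Cfsg.IsStemExtension p) (hq : Fintype.card F ≤ 3) :
    ∃ s : SL(2, F) →* P, p.comp s = MonoidHom.id _ := by
  classical
  have hp := hτ.1
  have hc := hτ.2.1
  have hq1 : 1 < Fintype.card F := Fintype.one_lt_card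
  have hprime : (Fintype.card F).Prime := by
    rcases (show Fintype.card F = 2 ∨ Fintype.card F = 3 by omega) with e | e <;> rw [e] <;> norm_num
  haveI := Fact.mk hprime
  haveI : CharP F (Fintype.card F) := charP_of_card_eq_prime rfl
  set ℓ := Fintype.card F with hℓ
  have hcyc : ∀ S : Sylow ℓ (SL(2, F)), IsCyclic (S : Subgroup SL(2, F)) := by
    intro S
    refine isCyclic_of_prime_card (p := ℓ) ?_
    rw [Sylow.card_eq_multiplicity]
    have e := CfsgLib.Classical.card_sl_mul (F := F) (n := 2) (by omega)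
    rw [Fin.prod_univ_two, ← hℓ] at e
    simp only [Fin.val_zero, Fin.val_one, pow_zero, pow_one] at e
    rcases (show ℓ = 2 ∨ ℓ = 3 by omega) with h | h <;> rw [h] at e ⊢
    · rw [show Nat.card SL(2, F) = 6 by omega]
      rw [show (6 : ℕ).factorization 2 = 1 from ?_, pow_one]
      rw [show (6 : ℕ) = 2 * 3 from rfl, Nat.factorization_mul (by norm_num) (by norm_num),
        Nat.Prime.factorization Nat.prime_two, Nat.Prime.factorization Nat.prime_three]
      simp
    · rw [show Nat.card SL(2, F) = 24 by omega]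
      rw [show (24 : ℕ).factorization 3 = 1 from ?_, pow_one]
      rw [show (24 : ℕ) = 2 ^ 3 * 3 from rfl, Nat.factorization_mul (by norm_num) (by norm_num),
        Nat.Prime.factorization_pow Nat.prime_two, Nat.Prime.factorization Nat.prime_three]
      simp
  have hcop : (Nat.card p.ker).Coprime ℓ :=
    ((Nat.Prime.coprime_iff_not_dvd hprime).2 (not_dvd_card_stem_ker hτ hcyc)).symm
  obtain ⟨L, hL⟩ := hp (upper 1)
  have hpow : ∀ n : ℕ, p (L ^ n) = upper (n : F) := by
    intro n
    induction n with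
    | zero => rw [pow_zero, map_one, Nat.cast_zero, upper_zero]
    | succ n ih => rw [pow_succ, map_mul, ih, hL, Nat.cast_succ, upper_add]
  obtain ⟨z, hz⟩ := (powCoprime hcop).surjective ⟨L ^ ℓ, by
    rw [MonoidHom.mem_ker, hpow, CharP.cast_eq_zero, upper_zero]⟩
  have hzc : (z : P) ∈ Subgroup.center P := hc z.2
  have hz' : (z : P) ^ ℓ = L ^ ℓ := congrArg Subtype.val hz
  set x₀ : P := L * (z : P)⁻¹
  have hx0 : x₀ ^ ℓ = 1 := by
    have hcm : Commute L (z : P)⁻¹ := (Subgroup.mem_center_iff.1 (inv_mem hzc) L)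
    rw [hcm.mul_pow, inv_pow, hz', mul_inv_cancel]
  have hpx : p x₀ = upper 1 := by
    rw [map_mul, hL, map_inv, (z.2 : p z = 1), inv_one, mul_one]
  have hpxn : ∀ n : ℕ, p (x₀ ^ n) = upper (n : F) := fun n => by
    rw [map_pow, hpx, ← hL, ← map_pow, hpow]
  have hsurj : ∀ t : F, ∃ n : ℕ, (n : F) = t := by
    intro t
    have hb : Function.Bijective (ZMod.castHom (dvd_refl ℓ) F) := by
      rw [Fintype.bijective_iff_injective_and_card]
      exact ⟨(ZMod.castHom _ _).injective, by rw [ZMod.card]⟩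
    obtain ⟨a, ha⟩ := hb.2 t
    exact ⟨a.val, by rw [← ha, ZMod.castHom_apply, ZMod.cast_eq_val]⟩
  choose N hN using hsurj
  have hcast : ∀ m n : ℕ, (m : F) = n → x₀ ^ m = x₀ ^ n := fun m n e => by
    have e' : m % ℓ = n % ℓ := (CharP.natCast_eq_natCast F ℓ).1 e
    rw [← Nat.mod_add_div m ℓ, ← Nat.mod_add_div n ℓ, pow_add, pow_add, pow_mul, pow_mul, hx0,
      one_pow, one_pow, e']
  refine section_of_lift hp hc (fun t => x₀ ^ N t) (fun t => by rw [hpxn, hN])
    (fun t u => by rw [← pow_add]; exact hcast _ _ (by rw [Nat.cast_add, hN, hN, hN])) ?_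
  intro a q hq' t
  have ha : (a : F) ^ 2 = 1 := by
    have e := FiniteField.pow_card_sub_one_eq_one (a : F) a.ne_zero
    rcases (show ℓ = 2 ∨ ℓ = 3 by omega) with h | h
    · rw [show Fintype.card F - 1 = 1 by omega, pow_one] at e
      rw [e, one_pow]
    · rwa [show Fintype.card F - 1 = 2 by omega] at e
  rw [ha, one_mul]
  have hcm : Commute (p q) (p x₀) := by
    have h1 : dg a * upper 1 * (dg a)⁻¹ = upper (1 : F) := by rw [dg_upper, ha, one_mul]
    rw [hq', hpx]
    exact mul_inv_eq_iff_eq_mul.1 h1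
  have hcen := comm_central hc hcm
  have hk : ⁅q, x₀⁆ ∈ p.ker := by
    rw [MonoidHom.mem_ker, map_commutatorElement, commutatorElement_eq_one_iff_commute.2 hcm]
  have h1 : ⁅q, x₀⁆ ^ ℓ = 1 := by
    rw [← CfsgLib.Schur.pow_commutator_right hcen, hx0, commutatorElement_one_right]
  have h2 : (⟨⁅q, x₀⁆, hk⟩ : p.ker) = 1 :=
    (powCoprime hcop).injective (Subtype.ext (by
      show ⁅q, x₀⁆ ^ ℓ = (1 : P) ^ ℓ
      rw [h1, one_pow]))
  have h3 : Commute q x₀ := commutatorElement_eq_one_iff_commute.1 (congrArg Subtype.val h2)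
  rw [(h3.pow_right (N t)).eq, mul_inv_cancel_right]

theorem sl2_commutator (hq : 3 < Fintype.card F) : commutator SL(2, F) = ⊤ := by
  have hu : ∀ t : F, upper t ∈ commutator SL(2, F) := by
    intro t
    obtain ⟨a, ha⟩ := exists_sq_ne_one hq
    have h0 : (a : F) ^ 2 - 1 ≠ 0 := sub_ne_zero.2 ha
    have e : upper t = ⁅dg a, upper (t / ((a : F) ^ 2 - 1))⁆ := by
      rw [commutatorElement_def, dg_upper, upper_inv, ← upper_add]
      congr 1
      field_simp
      ring
    rw [e]
    exact Subgroup.commutator_mem_commutator (Subgroup.mem_top _) (Subgroup.mem_top _)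
  have hl : ∀ t : F, lower t ∈ commutator SL(2, F) := fun t => by
    have e := wel_upper (-t)
    rw [neg_neg] at e
    rw [← e]
    exact (Subgroup.commutator_normal ⊤ ⊤).conj_mem _ (hu _) _
  have h : (QuotientGroup.mk' (commutator SL(2, F))) = 1 :=
    sl2_hom_ext (fun t => by rw [MonoidHom.one_apply]; exact (QuotientGroup.eq_one_iff _).2 (hu t))
      fun t => by rw [MonoidHom.one_apply]; exact (QuotientGroup.eq_one_iff _).2 (hl t)
  rw [eq_top_iff]
  intro g _
  exact (QuotientGroup.eq_one_iff g).1 (DFunLike.congr_fun h g)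

/-- every finite central extension of `SL_n` splits outside the exceptions -/
theorem exists_section_any {n : ℕ} (hn : 2 ≤ n) (h2 : n = 2 → 3 < Fintype.card F)
    (hexc : (n, Fintype.card F) ∉ ({(2, 4), (2, 9), (3, 2), (3, 4), (4, 2)} : Set (ℕ × ℕ)))
    {P : Type*} [Group P] (p : P →* Matrix.SpecialLinearGroup (Fin n) F) (hp : Function.Surjective p)
    (hc : p.ker ≤ Subgroup.center P) :
    ∃ s : Matrix.SpecialLinearGroup (Fin n) F →* P, p.comp s = MonoidHom.id _ := by
  simp only [Set.mem_insert_iff, Set.mem_singleton_iff, Prod.mk.injEq, not_or] at hexc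
  rcases eq_or_lt_of_le hn with e | e
  · subst e
    exact exists_section_sl2 p hp hc (h2 rfl) (fun h => hexc.1 ⟨rfl, h⟩) fun h => hexc.2.1 ⟨rfl, h⟩
  · refine exists_section_sl p hp hc e ?_
    simp only [Set.mem_insert_iff, Set.mem_singleton_iff, Prod.mk.injEq, not_or]
    exact ⟨hexc.2.2.1, hexc.2.2.2.1, hexc.2.2.2.2⟩

/-- `SL_n → PSL_n` is a stem extension -/
theorem stem_mk {n : ℕ} (hn : 2 ≤ n) (h2 : n = 2 → 3 < Fintype.card F) :
    Cfsg.IsStemExtension (QuotientGroup.mk' (Subgroup.center (Matrix.SpecialLinearGroup (Fin n) F))) := by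
  refine ⟨QuotientGroup.mk'_surjective _, by rw [QuotientGroup.ker_mk'], ?_⟩
  have hperf : commutator (Matrix.SpecialLinearGroup (Fin n) F) = ⊤ := by
    rcases eq_or_lt_of_le hn with e | e
    · subst e; exact sl2_commutator (h2 rfl)
    · exact CfsgLib.Classical.sl_commutator e
  rw [hperf]
  exact le_top

end CfsgLib.Lie.SLUniv

namespace CfsgLib.Lie.SLUniv

universe u

/-- the multiplier of `PSL_n(q)` -/
theorem psl_multiplier {F : Type u} [Field F] [Fintype F] {n : ℕ} (hn : 2 ≤ n)
    (h2 : n = 2 → 3 < Fintype.card F)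
    (hexc : (n, Fintype.card F) ∉ ({(2, 4), (2, 9), (3, 2), (3, 4), (4, 2)} : Set (ℕ × ℕ))) :
    Cfsg.HasCyclicSchurMultiplier (Matrix.ProjectiveSpecialLinearGroup (Fin n) F)
      (Nat.gcd n (Fintype.card F - 1)) := by
  classical
  refine hasSchurMultiplier_of_split (stem_mk hn h2)
    (fun P _ _ p hp hc => exists_section_any hn h2 hexc p hp hc) ?_
  haveI : Nonempty (Fin n) := ⟨⟨0, by omega⟩⟩
  haveI : IsCyclic (Subgroup.center (Matrix.SpecialLinearGroup (Fin n) F)) :=
    isCyclic_of_surjective _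
      (Matrix.SpecialLinearGroup.center_equiv_rootsOfUnity (n := Fin n) (R := F)).symm.surjective
  have hcard := CfsgLib.Classical.card_center_sl (F := F) (n := n) (by omega)
  exact (MulEquiv.subgroupCongr (QuotientGroup.ker_mk' _)).trans
    ((zmodCyclicMulEquiv inferInstance).symm.trans
      (MulEquiv.cast (M := fun k => Multiplicative (ZMod k)) hcard))

/-- the multiplier of `SL₂(q)` -/
theorem sl2_multiplier {F : Type u} [Field F] [Fintype F] (h4 : Fintype.card F ≠ 4)
    (h9 : Fintype.card F ≠ 9) :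
    Cfsg.HasCyclicSchurMultiplier (Matrix.SpecialLinearGroup (Fin 2) F) 1 := by
  classical
  refine hasCyclic_one_of_split fun P _ _ p hp => ?_
  rcases Nat.lt_or_ge 3 (Fintype.card F) with h | h
  · exact exists_section_sl2 p hp.1 hp.2.1 h h4 h9
  · exact exists_section_small p hp h

end CfsgLib.Lie.SLUniv
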