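import Cfsg.Agent.Lib.PGroup.StemExtension
import Cfsg.Prelude.Def_KGroupFacts

/-!
# Central extensions: commutators of lifts, and multipliers from splittings
-/

set_option autoImplicit false

namespace CfsgLib.Lie.SLUniv

open scoped commutatorElement

universe u v

variable {P : Type*} [Group P] {Q : Type*} [Group Q] {p : P →* Q} (hc : p.ker ≤ Subgroup.center P)
include hc

theorem central_of_eq_one {z : P} (h : p z = 1) (x : P) : x * z * x⁻¹ = z := by
  rw [Subgroup.mem_center_iff.1 (hc h) x, mul_inv_cancel_right]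

theorem conj_congr {a b : P} (h : p a = p b) (x : P) : a * x * a⁻¹ = b * x * b⁻¹ := by
  have hz : b⁻¹ * a ∈ Subgroup.center P :=
    hc (by rw [MonoidHom.mem_ker, map_mul, map_inv, h, inv_mul_cancel])
  have e := Subgroup.mem_center_iff.1 hz x
  calc a * x * a⁻¹ = b * (b⁻¹ * a * x * (b⁻¹ * a)⁻¹) * b⁻¹ := by group
    _ = _ := by rw [← e, mul_inv_cancel_right]

theorem comm_congr {a b a' b' : P} (ha : p a = p a') (hb : p b = p b') : ⁅a, b⁆ = ⁅a', b'⁆ := by
  calc ⁅a, b⁆ = a * (b * a⁻¹ * b⁻¹) := by rw [commutatorElement_def]; group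
    _ = a * (b' * a⁻¹ * b'⁻¹) := by rw [conj_congr hc hb]
    _ = (a * b' * a⁻¹) * b'⁻¹ := by group
    _ = (a' * b' * a'⁻¹) * b'⁻¹ := by rw [conj_congr hc ha]
    _ = _ := (commutatorElement_def a' b').symm

theorem commute_congr {a b a' b' : P} (ha : p a = p a') (hb : p b = p b') (h : Commute a' b') :
    Commute a b := by
  rw [← commutatorElement_eq_one_iff_commute, comm_congr hc ha hb,
    commutatorElement_eq_one_iff_commute]
  exact h

theorem comm_central {a b : P} (h : Commute (p a) (p b)) : ⁅a, b⁆ ∈ Subgroup.center P :=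
  hc (by rw [MonoidHom.mem_ker, map_commutatorElement, commutatorElement_eq_one_iff_commute.2 h])

/-- an element whose image commutes with those of `c` and `d` commutes with their commutator -/
theorem commute_comm {a c d : P} (h1 : Commute (p a) (p c)) (h2 : Commute (p a) (p d)) :
    Commute a ⁅c, d⁆ := by
  have e : a * ⁅c, d⁆ * a⁻¹ = ⁅c, d⁆ := by
    rw [conjugate_commutatorElement]
    refine comm_congr hc ?_ ?_ <;> simp only [map_mul, map_inv]
    · rw [h1.eq, mul_inv_cancel_right]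
    · rw [h2.eq, mul_inv_cancel_right]
  exact mul_inv_eq_iff_eq_mul.1 e

omit hc in
theorem commute_transfer {A C E : P} (hAE : Commute A E) (hC : Commute C ⁅⁅C⁻¹, A⁆, E⁆) :
    ⁅A, ⁅C, E⁆⁆ = ⁅⁅C⁻¹, A⁆, E⁆ := by
  have hE : A * E * A⁻¹ = E := by rw [hAE.eq, mul_inv_cancel_right]
  calc ⁅A, ⁅C, E⁆⁆ = ⁅A * C * A⁻¹, A * E * A⁻¹⁆ * ⁅C, E⁆⁻¹ := by
        rw [← conjugate_commutatorElement, commutatorElement_def A]
    _ = C * ⁅⁅C⁻¹, A⁆, E⁆ * C⁻¹ := by rw [hE]; simp only [commutatorElement_def]; group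
    _ = _ := by rw [hC.eq, mul_inv_cancel_right]

omit hc in
theorem commute_transfer' {A C E : P} (hAC : Commute A C) (hE : Commute ⁅A, E⁆ ⁅C, E⁆) :
    ⁅A, ⁅C, E⁆⁆ = ⁅C, ⁅A, E⁆⁆ := by
  have hC : A * C * A⁻¹ = C := by rw [hAC.eq, mul_inv_cancel_right]
  calc ⁅A, ⁅C, E⁆⁆ = ⁅A * C * A⁻¹, A * E * A⁻¹⁆ * ⁅C, E⁆⁻¹ := by
        rw [← conjugate_commutatorElement, commutatorElement_def A]
    _ = ⁅C, ⁅A, E⁆⁆ * (⁅A, E⁆ * ⁅C, E⁆ * ⁅A, E⁆⁻¹) * ⁅C, E⁆⁻¹ := by
        rw [hC]; simp only [commutatorElement_def]; group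
    _ = _ := by rw [hE.eq, mul_inv_cancel_right, mul_inv_cancel_right]

end CfsgLib.Lie.SLUniv

namespace CfsgLib.Lie.SLUniv

universe u v

/-- a section of every finite central extension: trivial multiplier -/
theorem hasCyclic_one_of_split {S : Type u} [Group S] [Finite S]
    (h : ∀ (P : Type u) [Group P] [Finite P] (p : P →* S), Cfsg.IsStemExtension p →
      ∃ s : S →* P, p.comp s = MonoidHom.id S) :
    Cfsg.HasCyclicSchurMultiplier S 1 := by
  refine CfsgLib.Schur.hasCyclic_one_of_ker_eq_bot fun Γ _ _ τ hτ => ?_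
  obtain ⟨s, hs⟩ := h Γ τ hτ
  have hr : s.range = ⊤ := CfsgLib.Schur.eq_top_of_map_eq_top hτ (by
    rw [MonoidHom.map_range, hs, MonoidHom.range_eq_top]; exact fun x => ⟨x, rfl⟩)
  rw [eq_bot_iff]
  intro g hg
  obtain ⟨x, rfl⟩ := hr.ge (Subgroup.mem_top g)
  rw [MonoidHom.mem_ker, ← MonoidHom.comp_apply, hs, MonoidHom.id_apply] at hg
  rw [Subgroup.mem_bot, hg, map_one]

/-- a stem extension by a group whose finite central extensions split is the universal one -/
theorem hasSchurMultiplier_of_split {S G : Type u} [Group S] [Finite S] [Group G] {π : S →* G}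
    (hπ : Cfsg.IsStemExtension π)
    (h : ∀ (P : Type u) [Group P] [Finite P] (p : P →* S), Function.Surjective p →
      p.ker ≤ Subgroup.center P → ∃ s : S →* P, p.comp s = MonoidHom.id S)
    {A : Type v} [CommGroup A] (e : π.ker ≃* A) : Cfsg.HasSchurMultiplier G A := by
  refine ⟨⟨S, inferInstance, inferInstance, π, hπ, ⟨e⟩⟩, fun Γ _ _ τ hτ => ?_⟩
  let P : Subgroup (Γ × S) := (τ.comp (MonoidHom.fst Γ S)).eqLocus (π.comp (MonoidHom.snd Γ S))
  let p : P →* S := (MonoidHom.snd Γ S).comp P.subtype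
  have hp : Function.Surjective p := fun x => by
    obtain ⟨g, hg⟩ := hτ.1 (π x)
    exact ⟨⟨(g, x), hg⟩, rfl⟩
  have hc : p.ker ≤ Subgroup.center P := by
    rintro ⟨⟨g, x⟩, hgx⟩ (hx : x = 1)
    subst hx
    have hg : g ∈ Subgroup.center Γ := hτ.2.1 (by
      have : τ g = π 1 := hgx
      rwa [map_one] at this)
    refine Subgroup.mem_center_iff.2 fun y => Subtype.ext (Prod.ext ?_ ?_)
    · exact Subgroup.mem_center_iff.1 hg _
    · show y.1.2 * 1 = 1 * y.1.2
      rw [mul_one, one_mul]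
  obtain ⟨s, hs⟩ := h P p hp hc
  let f : S →* Γ := ((MonoidHom.fst Γ S).comp P.subtype).comp s
  have hf : ∀ x, τ (f x) = π x := fun x => by
    have e1 : τ (f x) = π (p (s x)) := (s x).2
    rw [e1]
    exact congrArg π (DFunLike.congr_fun hs x)
  have hr : f.range = ⊤ := CfsgLib.Schur.eq_top_of_map_eq_top hτ (by
    rw [eq_top_iff]
    intro g _
    obtain ⟨x, rfl⟩ := hπ.1 g
    exact ⟨f x, ⟨x, rfl⟩, hf x⟩)
  let g0 : π.ker →* τ.ker := (f.comp π.ker.subtype).codRestrict _ fun x => by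
    show τ (f x.1) = 1
    rw [hf]; exact x.2
  refine ⟨g0.comp e.symm.toMonoidHom, Function.Surjective.comp (g := g0) (fun y => ?_) e.symm.surjective⟩
  obtain ⟨x, hx⟩ := hr.ge (Subgroup.mem_top (y : Γ))
  refine ⟨⟨x, ?_⟩, Subtype.ext hx⟩
  rw [MonoidHom.mem_ker, ← hf, hx]
  exact y.2

end CfsgLib.Lie.SLUniv
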