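import Cfsg.Agent.Lib.Lie.SLUniv.Basic
import Cfsg.Agent.Lib.Char.SingleBond.SteinbergHom

/-!
# Central extensions of `SL_n`, `n ≥ 3`, split outside `(3,2)`, `(3,4)`, `(4,2)`

The commutators of lifts of elementary matrices satisfy the relations of the Steinberg presentation.
-/

set_option autoImplicit false

namespace CfsgLib.Lie.SLUniv

open Matrix CfsgLib.Char.SingleBond
open scoped commutatorElement

variable {F : Type*} [Field F] {n : ℕ} {P : Type*} [Group P]
  (p : P →* SpecialLinearGroup (Fin n) F)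

local notation "x_" => slX (F := F) (n := n)

/-- the lifts of the elementary matrices at `(i,j)` and `(k,l)` commute -/
def DZ (i j k l : Fin n) : Prop :=
  ∀ (t u : F) (A B : P), p A = x_ i j t → p B = x_ k l u → Commute A B

theorem DZ.symm {p : P →* SpecialLinearGroup (Fin n) F} {i j k l : Fin n} (h : DZ p i j k l) :
    DZ p k l i j := fun t u A B hA hB => (h u t B A hB hA).symm

theorem x_comm {i j k l : Fin n} (hij : i ≠ j) (hkl : k ≠ l) (hil : i ≠ l) (hjk : j ≠ k) (t u : F) :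
    Commute (x_ i j t) (x_ k l u) := stRel_slX.comm hij hkl hil hjk t u

theorem x_prod {i j k : Fin n} (hij : i ≠ j) (hjk : j ≠ k) (hik : i ≠ k) (t u : F) :
    ⁅x_ i j t, x_ j k u⁆ = x_ i k (t * u) := by
  rw [commutatorElement_def, stRel_slX.prod hij hjk hik]

theorem exists_diag (d : Fin n → Fˣ) (hd : ∏ i, d i = 1) :
    ∃ h : SpecialLinearGroup (Fin n) F, ∀ {k l : Fin n}, k ≠ l → ∀ u : F,
      h * x_ k l u * h⁻¹ = x_ k l ((d k : F) * (d l : F)⁻¹ * u) := by
  have hdet : (Matrix.diagonal fun i => (d i : F)).det = 1 := by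
    rw [det_diagonal, ← Units.coe_prod, hd, Units.val_one]
  refine ⟨⟨Matrix.diagonal fun i => (d i : F), hdet⟩, fun {k l} hkl u => ?_⟩
  refine mul_inv_eq_iff_eq_mul.2 ?_
  apply Subtype.ext
  show (Matrix.diagonal fun i => (d i : F)) * (x_ k l u).1 =
    (x_ k l _).1 * Matrix.diagonal fun i => (d i : F)
  rw [coe_slX hkl, coe_slX hkl, Matrix.mul_add, Matrix.add_mul, Matrix.mul_one, Matrix.one_mul]
  congr 1
  ext a b
  simp only [Matrix.diagonal_mul, Matrix.mul_diagonal, Matrix.single_apply]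
  by_cases h : k = a ∧ l = b
  · obtain ⟨rfl, rfl⟩ := h
    simp only [and_self, if_true]
    field_simp
  · simp [if_neg h]

theorem exists_fresh (hn : 3 ≤ n) (i j : Fin n) : ∃ k : Fin n, k ≠ i ∧ k ≠ j := by
  by_contra hc
  simp only [not_exists, not_and, not_not] at hc
  have : (Finset.univ : Finset (Fin n)) ⊆ {i, j} := fun k _ => by
    rcases eq_or_ne k i with rfl | hk
    · simp
    · simp [hc k hk]
  have h2 := (Finset.card_le_card this).trans Finset.card_le_two
  simp at h2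
  omega

theorem exists_fresh₃ (hn : 4 ≤ n) (i j k : Fin n) : ∃ l : Fin n, l ≠ i ∧ l ≠ j ∧ l ≠ k := by
  by_contra hc
  simp only [not_exists, not_and, not_not] at hc
  have : (Finset.univ : Finset (Fin n)) ⊆ {i, j, k} := fun l _ => by
    rcases eq_or_ne l i with rfl | hl
    · simp
    rcases eq_or_ne l j with rfl | hl'
    · simp
    · simp [hc l hl hl']
  have h2 := (Finset.card_le_card this).trans Finset.card_le_three
  simp at h2
  omega

theorem exists_fresh₄ (hn : 5 ≤ n) (i j k l : Fin n) :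
    ∃ m : Fin n, m ≠ i ∧ m ≠ j ∧ m ≠ k ∧ m ≠ l := by
  by_contra hc
  simp only [not_exists, not_and, not_not] at hc
  have : (Finset.univ : Finset (Fin n)) ⊆ {i, j, k, l} := fun m _ => by
    rcases eq_or_ne m i with rfl | h1
    · simp
    rcases eq_or_ne m j with rfl | h2
    · simp
    rcases eq_or_ne m k with rfl | h3
    · simp
    · simp [hc m h1 h2 h3]
  have h2 := (Finset.card_le_card this).trans Finset.card_le_four
  simp at h2
  omega

variable (hp : Function.Surjective p) (hc : p.ker ≤ Subgroup.center P)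
include hp hc

/-- a torus element centralising the first root and moving the second -/
theorem dz_of_diag {i j k l : Fin n} (hij : i ≠ j) (hkl : k ≠ l) (hil : i ≠ l) (hjk : j ≠ k)
    (d : Fin n → Fˣ) (hd : ∏ i, d i = 1) (h1 : d i = d j) (h2 : d k ≠ d l) : DZ p i j k l := by
  intro t u A B hA hB
  obtain ⟨h, hh⟩ := exists_diag d hd
  obtain ⟨q, hq⟩ := hp h
  set a : F := (d k : F) * (d l : F)⁻¹
  have ha : a - 1 ≠ 0 := by
    rw [sub_ne_zero]
    intro e
    exact h2 (Units.ext (by rwa [mul_inv_eq_one₀ (Units.ne_zero _)] at e))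
  obtain ⟨B₁, hB₁⟩ := hp (x_ k l (u / (a - 1)))
  obtain ⟨B₂, hB₂⟩ := hp (x_ k l (a * (u / (a - 1))))
  have hcz : ∀ v : F, ∀ b : P, p b = x_ k l v → ⁅A, b⁆ ∈ Subgroup.center P := fun v b hb =>
    comm_central hc (by rw [hA, hb]; exact x_comm hij hkl hil hjk t v)
  have hA' : p (q * A * q⁻¹) = p A := by
    rw [map_mul, map_mul, map_inv, hq, hA, hh hij, h1, mul_inv_cancel₀ (Units.ne_zero _), one_mul]
  have hB' : p (q * B₁ * q⁻¹) = p B₂ := by
    rw [map_mul, map_mul, map_inv, hq, hB₁, hh hkl, hB₂]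
  have e : ⁅A, B₂⁆ = ⁅A, B₁⁆ := by
    rw [← comm_congr hc hA' hB', ← conjugate_commutatorElement,
      Subgroup.mem_center_iff.1 (hcz _ _ hB₁) q, mul_inv_cancel_right]
  have hBeq : p B = p (B₂ * B₁⁻¹) := by
    rw [map_mul, map_inv, hB, hB₁, hB₂, stRel_slX.neg hkl, ← stRel_slX.add hkl]
    congr 1
    field_simp
    ring
  have e2 : ⁅A, B₂ * B₁⁻¹⁆ * ⁅A, B₁⁆ = ⁅A, B₂⁆ := by
    have hz := Subgroup.mem_center_iff.1 (hcz _ _ hB₁) (B₂ * B₁⁻¹)
    calc ⁅A, B₂ * B₁⁻¹⁆ * ⁅A, B₁⁆
        = ⁅A, B₂ * B₁⁻¹⁆ * (B₂ * B₁⁻¹ * ⁅A, B₁⁆ * (B₂ * B₁⁻¹)⁻¹) := by rw [hz, mul_inv_cancel_right]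
      _ = _ := by simp only [commutatorElement_def]; group
  rw [← commutatorElement_eq_one_iff_commute, comm_congr hc rfl hBeq]
  rw [e] at e2
  exact mul_eq_right.1 e2

/-- the lifts at `(k,l)` are commutators of lifts at two places commuting with `(i,j)` -/
theorem dz_of_split {i j k l m : Fin n} (hij : i ≠ j) (hkl : k ≠ l) (hkm : k ≠ m) (hml : m ≠ l)
    (h1 : i ≠ m) (h2 : j ≠ k) (h3 : i ≠ l) (h4 : j ≠ m) : DZ p i j k l := by
  intro t u A B hA hB
  obtain ⟨C, hC⟩ := hp (x_ k m u)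
  obtain ⟨E, hE⟩ := hp (x_ m l 1)
  refine commute_congr hc (b' := ⁅C, E⁆) rfl
    (by rw [hB, map_commutatorElement, hC, hE, x_prod hkm hml hkl, mul_one]) ?_
  refine commute_comm hc ?_ ?_
  · rw [hA, hC]; exact x_comm hij hkm h1 h2 t u
  · rw [hA, hE]; exact x_comm hij hml h3 h4 t 1

theorem dz_self (hn : 3 ≤ n) {i j : Fin n} (hij : i ≠ j) : DZ p i j i j := by
  obtain ⟨m, hmi, hmj⟩ := exists_fresh hn i j
  exact dz_of_split p hp hc hij hij hmi.symm hmj hmi.symm hij.symm hij hmj.symm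

theorem dz_row (hn : 4 ≤ n) {i j k : Fin n} (hij : i ≠ j) (hik : i ≠ k) : DZ p i j i k := by
  obtain ⟨m, hmi, hmj, hmk⟩ := exists_fresh₃ hn i j k
  exact dz_of_split p hp hc hij hik hmi.symm hmk hmi.symm hij.symm hik hmj.symm

theorem dz_col (hn : 4 ≤ n) {i j k : Fin n} (hij : i ≠ j) (hkj : k ≠ j) : DZ p i j k j := by
  by_cases hik : i = k
  · subst hik
    exact dz_self p hp hc (by omega) hij
  · obtain ⟨m, hmi, hmj, hmk⟩ := exists_fresh₃ hn i j k
    exact dz_of_split p hp hc hij hkj hmk.symm hmj hmi.symm hkj.symm hij hmj.symm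

/-- four places in odd characteristic: two decompositions force the pairing to vanish -/
theorem dz_disjoint_odd (hn : 4 ≤ n) (h2 : (2 : F) ≠ 0) {i j k l : Fin n} (hij : i ≠ j) (hkl : k ≠ l)
    (hik : i ≠ k) (hil : i ≠ l) (hjk : j ≠ k) (hjl : j ≠ l) : DZ p i j k l := by
  haveI : NeZero (2 : F) := ⟨h2⟩
  have step1 : ∀ {i j k l : Fin n}, i ≠ j → k ≠ l → i ≠ k → i ≠ l → j ≠ k → j ≠ l →
      ∀ t u (A B A' B' : P), p A = x_ i j t → p B = x_ k l u → p A' = x_ k j (-t) → p B' = x_ i l u →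
      ⁅A, B⁆ = ⁅A', B'⁆ := by
    intro i j k l hij hkl hik hil hjk hjl t u A B A' B' hA hB hA' hB'
    obtain ⟨C, hC⟩ := hp (x_ k i 1)
    have hE : p ⁅C⁻¹, A⁆ = p A' := by
      rw [map_commutatorElement, map_inv, hC, hA, hA', stRel_slX.neg hik.symm,
        x_prod hik.symm hij hjk.symm, neg_one_mul]
    have hcen : ⁅A', B'⁆ ∈ Subgroup.center P :=
      comm_central hc (by rw [hA', hB']; exact x_comm hjk.symm hil hkl hij.symm _ _)
    rw [comm_congr hc (b' := ⁅C, B'⁆) rfl (by rw [hB, map_commutatorElement, hC, hB',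
        x_prod hik.symm hil hkl, one_mul]),
      commute_transfer (dz_row p hp hc hn hij hil _ _ _ _ hA hB')
        (by rw [comm_congr hc hE rfl]; exact Subgroup.mem_center_iff.1 hcen C),
      comm_congr hc hE rfl]
  have step2 : ∀ {i j k l : Fin n}, i ≠ j → k ≠ l → i ≠ k → i ≠ l → j ≠ k → j ≠ l →
      ∀ t u (A B A' B' : P), p A = x_ i j t → p B = x_ k l u → p A' = x_ k j (u * t) → p B' = x_ i l 1 →
      ⁅A, B⁆ = ⁅A', B'⁆ := by
    intro i j k l hij hkl hik hil hjk hjl t u A B A' B' hA hB hA' hB'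
    obtain ⟨E, hE⟩ := hp (x_ l j t)
    have hBE : p ⁅B, E⁆ = p A' := by
      rw [map_commutatorElement, hB, hE, hA', x_prod hkl hjl.symm hjk.symm]
    have hA2 : p A = p ⁅B', E⁆ := by
      rw [map_commutatorElement, hB', hE, hA, x_prod hil hjl.symm hij, one_mul]
    have hcom : Commute ⁅B, E⁆ ⁅B', E⁆ :=
      dz_col p hp hc hn hjk.symm hij _ _ _ _ (hBE.trans hA') (hA2.symm.trans hA)
    have e : ⁅B, A⁆ = ⁅B', A'⁆ := by
      rw [comm_congr hc rfl hA2,
        commute_transfer' (dz_col p hp hc hn hkl hil _ _ _ _ hB hB') hcom, comm_congr hc rfl hBE]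
    rw [← commutatorElement_inv, e, commutatorElement_inv]
  intro t u A B hA hB
  have half : ∀ {i j k l : Fin n}, i ≠ j → k ≠ l → i ≠ k → i ≠ l → j ≠ k → j ≠ l →
      ∀ v (A B : P), p A = x_ i j v → p B = x_ k l 1 → ⁅A, B⁆ = 1 := by
    intro i j k l hij hkl hik hil hjk hjl v A B hA hB
    obtain ⟨A₁, hA₁⟩ := hp (x_ i j (v / 2))
    obtain ⟨A₂, hA₂⟩ := hp (x_ k j (-(v / 2)))
    obtain ⟨A₃, hA₃⟩ := hp (x_ i j (-(v / 2)))
    obtain ⟨A₄, hA₄⟩ := hp (x_ k j (v / 2))
    obtain ⟨B', hB'⟩ := hp (x_ i l 1)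
    have k1 : ⁅A₁, B⁆ = ⁅A₂, B'⁆ := step1 hij hkl hik hil hjk hjl _ _ _ _ _ _ hA₁ hB hA₂ hB'
    have k2 : ⁅A₁, B⁆ = ⁅A₄, B'⁆ :=
      step2 hij hkl hik hil hjk hjl _ _ _ _ _ _ hA₁ hB (by rw [hA₄, one_mul]) hB'
    have k3 : ⁅A₃, B⁆ = ⁅A₄, B'⁆ :=
      step1 hij hkl hik hil hjk hjl _ _ _ _ _ _ hA₃ hB (by rw [hA₄, neg_neg]) hB'
    have e : ⁅A₁, B⁆ = ⁅A₁⁻¹, B⁆ := by
      rw [k2, ← k3]
      exact comm_congr hc (by rw [map_inv, hA₁, hA₃, stRel_slX.neg hij]) rfl
    have hcen : ⁅A₁, B⁆ ∈ Subgroup.center P :=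
      comm_central hc (by rw [hA₁, hB]; exact x_comm hij hkl hil hjk _ _)
    rw [comm_congr hc (a' := A₁ * A₁) (by rw [map_mul, hA, hA₁, ← stRel_slX.add hij, add_halves]) rfl]
    have e1 : ⁅A₁ * A₁, B⁆ = ⁅A₁, B⁆ * ⁅A₁, B⁆ := by
      have hz := Subgroup.mem_center_iff.1 hcen A₁
      calc ⁅A₁ * A₁, B⁆ = A₁ * ⁅A₁, B⁆ * A₁⁻¹ * ⁅A₁, B⁆ := by
            simp only [commutatorElement_def]; group
        _ = _ := by rw [hz, mul_inv_cancel_right]
    have e2 : ⁅A₁, B⁆ * ⁅A₁⁻¹, B⁆ = 1 := by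
      have hz := Subgroup.mem_center_iff.1 hcen A₁⁻¹
      calc ⁅A₁, B⁆ * ⁅A₁⁻¹, B⁆ = A₁⁻¹ * ⁅A₁, B⁆ * A₁⁻¹⁻¹ * ⁅A₁⁻¹, B⁆ := by
            rw [hz, mul_inv_cancel_right]
        _ = ⁅A₁⁻¹ * A₁, B⁆ := by simp only [commutatorElement_def]; group
        _ = 1 := by rw [inv_mul_cancel, commutatorElement_one_left]
    rw [e1]
    nth_rewrite 2 [e]
    exact e2
  obtain ⟨A', hA'⟩ := hp (x_ k j (u * t))
  obtain ⟨B', hB'⟩ := hp (x_ i l 1)
  rw [← commutatorElement_eq_one_iff_commute, step2 hij hkl hik hil hjk hjl _ _ _ _ _ _ hA hB hA' hB']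
  exact half hjk.symm hil hik.symm hkl hij.symm hjl _ _ _ hA' hB'

variable [Fintype F]

omit hp hc in
theorem exists_unit_pow_ne {m : ℕ} (hm : ¬ (Fintype.card F - 1) ∣ m) : ∃ a : Fˣ, a ^ m ≠ 1 := by
  classical
  obtain ⟨g, hg⟩ := IsCyclic.exists_generator (α := Fˣ)
  refine ⟨g, fun e => hm ?_⟩
  have h := orderOf_dvd_of_pow_eq_one e
  rwa [orderOf_eq_card_of_forall_mem_zpowers hg, Nat.card_units, Nat.card_eq_fintype_card] at h

theorem dz_all (hn : 3 ≤ n)
    (hexc : (n, Fintype.card F) ∉ ({(3, 2), (3, 4), (4, 2)} : Set (ℕ × ℕ)))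
    {i j k l : Fin n} (hij : i ≠ j) (hkl : k ≠ l) (hil : i ≠ l) (hjk : j ≠ k) : DZ p i j k l := by
  simp only [Set.mem_insert_iff, Set.mem_singleton_iff, Prod.mk.injEq, not_or] at hexc
  obtain ⟨he1, he2, he3⟩ := hexc
  have hq : 1 < Fintype.card F := Fintype.one_lt_card
  rcases eq_or_lt_of_le hn with h3 | h4
  · -- three places
    by_cases hself : i = k ∧ j = l
    · obtain ⟨rfl, rfl⟩ := hself
      exact dz_self p hp hc hn hij
    obtain ⟨a, ha⟩ : ∃ a : Fˣ, a ^ 3 ≠ 1 := exists_unit_pow_ne (by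
      intro hd
      rcases (Nat.dvd_prime Nat.prime_three).1 hd with e | e <;> omega)
    obtain ⟨m, hmi, hmj⟩ := exists_fresh hn i j
    refine dz_of_diag p hp hc hij hkl hil hjk
      (fun x => if x = m then (a ^ 2)⁻¹ else a) ?_ ?_ ?_
    · rw [← Finset.mul_prod_erase Finset.univ _ (Finset.mem_univ m), if_pos rfl,
        Finset.prod_congr rfl (fun x hx => if_neg (Finset.ne_of_mem_erase hx)), Finset.prod_const,
        Finset.card_erase_of_mem (Finset.mem_univ m), Finset.card_univ, Fintype.card_fin, ← h3,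
        inv_mul_cancel]
    · simp only [if_neg hmi.symm, if_neg hmj.symm]
    · have hkm : (k = m ∧ l ≠ m) ∨ (k ≠ m ∧ l = m) := by
        have hall : ∀ x : Fin n, x = i ∨ x = j ∨ x = m := by
          intro x
          have hu : ({i, j, m} : Finset (Fin n)) = Finset.univ := Finset.eq_univ_of_card _ (by
            rw [Finset.card_insert_of_notMem (by simp [hij, hmi.symm]), Finset.card_pair hmj.symm,
              Fintype.card_fin]
            omega)
          have := hu.ge (Finset.mem_univ x)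
          simpa using this
        rcases hall k with rfl | rfl | rfl <;> rcases hall l with rfl | rfl | rfl <;> tauto
      have hne : (a ^ 2)⁻¹ ≠ a := fun e => ha (by rw [pow_succ]; nth_rewrite 2 [← e]; rw [mul_inv_cancel])
      rcases hkm with ⟨e1, e2⟩ | ⟨e1, e2⟩
      · simp only [if_pos e1, if_neg e2]; exact hne
      · simp only [if_neg e1, if_pos e2]; exact hne.symm
  · by_cases hik : i = k
    · subst hik
      exact dz_row p hp hc h4 hij hkl
    by_cases hjl : j = l
    · subst hjl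
      exact dz_col p hp hc h4 hij hkl
    rcases eq_or_lt_of_le (show 4 ≤ n from h4) with e4 | h5
    · by_cases h2 : (2 : F) = 0
      · obtain ⟨a, ha⟩ : ∃ a : Fˣ, a ^ 2 ≠ 1 := exists_unit_pow_ne (by
          intro hd
          rcases (Nat.dvd_prime Nat.prime_two).1 hd with e | e
          · omega
          · haveI := Fact.mk Nat.prime_three
            haveI : CharP F 3 := charP_of_card_eq_prime (show Fintype.card F = 3 by omega)
            have := (CharP.cast_eq_zero_iff F 3 2).1 (by exact_mod_cast h2)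
            omega)
        refine dz_of_diag p hp hc hij hkl hil hjk (Function.update (Function.update 1 k a) l a⁻¹)
          ?_ ?_ ?_
        · rw [Finset.prod_update_of_mem (Finset.mem_univ _),
            Finset.prod_update_of_mem (by simp [hkl])]
          simp
        · simp [hik, hil, hjk, hjl]
        · simp only [Function.update_of_ne hkl, Function.update_self]
          exact fun e => ha (by rw [sq]; nth_rewrite 2 [e]; rw [mul_inv_cancel])
      · exact dz_disjoint_odd p hp hc h4 h2 hij hkl hik hil hjk hjl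
    · obtain ⟨m, hmi, hmj, hmk, hml⟩ := exists_fresh₄ h5 i j k l
      exact dz_of_split p hp hc hij hkl hmk.symm hml hmi.symm hjk hil hmj.symm

/-- the central extension splits -/
theorem exists_section_sl (hn : 3 ≤ n)
    (hexc : (n, Fintype.card F) ∉ ({(3, 2), (3, 4), (4, 2)} : Set (ℕ × ℕ))) :
    ∃ s : SpecialLinearGroup (Fin n) F →* P, p.comp s = MonoidHom.id _ := by
  classical
  have dz : ∀ {i j k l : Fin n}, i ≠ j → k ≠ l → i ≠ l → j ≠ k → DZ p i j k l :=
    fun h1 h2 h3 h4 => dz_all p hp hc hn hexc h1 h2 h3 h4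
  choose L hL using fun (i j : Fin n) (t : F) => hp (x_ i j t)
  let f : Fin n → Fin n → Fin n → F → F → P := fun i k j t u => ⁅L i k t, L k j u⁆
  have pf : ∀ {i k j}, i ≠ k → k ≠ j → i ≠ j → ∀ t u, p (f i k j t u) = x_ i j (t * u) := by
    intro i k j h1 h2 h3 t u
    rw [map_commutatorElement, hL, hL, x_prod h1 h2 h3]
  have fadd : ∀ {i k j}, i ≠ k → k ≠ j → i ≠ j → ∀ t t' u,
      f i k j (t + t') u = f i k j t u * f i k j t' u := by
    intro i k j h1 h2 h3 t t' u
    have e : f i k j (t + t') u = ⁅L i k t * L i k t', L k j u⁆ :=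
      comm_congr hc (by rw [map_mul, hL, hL, hL, ← stRel_slX.add h1]) rfl
    have c1 : Commute (L i k t) (f i k j t' u) :=
      dz h1 h3 h3 h1.symm t _ _ _ (hL _ _ _) (pf h1 h2 h3 t' u)
    have c2 : Commute (f i k j t' u) (f i k j t u) :=
      dz h3 h3 h3 h3.symm _ _ _ _ (pf h1 h2 h3 t' u) (pf h1 h2 h3 t u)
    rw [e, show ⁅L i k t * L i k t', L k j u⁆ = L i k t * f i k j t' u * (L i k t)⁻¹ * f i k j t u by
      simp only [f, commutatorElement_def]; group, c1.eq, mul_inv_cancel_right, c2.eq]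
  have assoc : ∀ {i k j}, i ≠ k → k ≠ j → i ≠ j → ∀ t u, f i k j t u = f i k j (t * u) 1 := by
    intro i k j h1 h2 h3 t u
    rcases eq_or_lt_of_le hn with e3 | h4
    · simp only [Set.mem_insert_iff, Set.mem_singleton_iff, Prod.mk.injEq, not_or] at hexc
      obtain ⟨he1, he2, -⟩ := hexc
      have hq : 1 < Fintype.card F := Fintype.one_lt_card
      obtain ⟨a, ha⟩ : ∃ a : Fˣ, a ^ 3 ≠ 1 := exists_unit_pow_ne (by
        intro hd
        rcases (Nat.dvd_prime Nat.prime_three).1 hd with e | e <;> omega)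
      obtain ⟨h, hh⟩ := exists_diag (fun x => if x = i then (a ^ 2)⁻¹ else a) (by
        rw [← Finset.mul_prod_erase Finset.univ _ (Finset.mem_univ i), if_pos rfl,
          Finset.prod_congr rfl (fun x hx => if_neg (Finset.ne_of_mem_erase hx)), Finset.prod_const,
          Finset.card_erase_of_mem (Finset.mem_univ i), Finset.card_univ, Fintype.card_fin, ← e3,
          inv_mul_cancel])
      obtain ⟨q, hq'⟩ := hp h
      set α : F := (((a ^ 2)⁻¹ : Fˣ) : F) * ((a : Fˣ) : F)⁻¹
      have hα : α - 1 ≠ 0 := by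
        rw [sub_ne_zero]
        intro e
        rw [mul_inv_eq_one₀ (Units.ne_zero _)] at e
        exact ha (by rw [pow_succ]; nth_rewrite 2 [← Units.ext e]; rw [mul_inv_cancel])
      have hconj : ∀ t u, q * f i k j t u * q⁻¹ = f i k j (α * t) u := by
        intro t u
        rw [conjugate_commutatorElement]
        refine comm_congr hc ?_ ?_ <;> simp only [map_mul, map_inv, hq', hL]
        · rw [hh h1, if_pos rfl, if_neg h1.symm]
        · rw [hh h2, if_neg h1.symm, if_neg h3.symm, mul_inv_cancel₀ (Units.ne_zero _), one_mul]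
      let z : F → P := fun v => f i k j v u * (f i k j (v * u) 1)⁻¹
      have hz : ∀ v, p (z v) = 1 := fun v => by
        simp only [z, map_mul, map_inv, pf h1 h2 h3, mul_one, mul_inv_cancel]
      have zconj : ∀ v, z (α * v) = z v := fun v => by
        have e1 := hconj v u
        have e2 := hconj (v * u) 1
        rw [← mul_assoc α v u] at e2
        simp only [z]
        rw [← e1, ← e2]
        have e3 := central_of_eq_one hc (hz v) q
        simp only [z] at e3
        refine Eq.trans ?_ e3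
        group
      have zadd : ∀ v v', z (v + v') = z v * z v' := fun v v' => by
        have e := fadd h1 h2 h3 v v' u
        have e' := fadd h1 h2 h3 (v * u) (v' * u) 1
        rw [← add_mul] at e'
        simp only [z]
        rw [e, e', _root_.mul_inv_rev]
        have hcz := Subgroup.mem_center_iff.1 (hc (hz v')) ((f i k j (v * u) 1)⁻¹)
        simp only [z] at hcz
        calc _ = f i k j v u * (f i k j v' u * (f i k j (v' * u) 1)⁻¹ * (f i k j (v * u) 1)⁻¹) := by group
          _ = _ := by rw [← hcz]; group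
      have hone : z t = 1 := by
        have e : z (α * (t / (α - 1))) = z t * z (t / (α - 1)) := by
          rw [← zadd]; congr 1; field_simp; ring
        rw [zconj] at e
        exact mul_eq_right.1 e.symm
      exact mul_inv_eq_one.1 hone
    · have swap : ∀ {k l : Fin n}, i ≠ k → k ≠ j → i ≠ l → l ≠ j → k ≠ l → ∀ t u w,
          f i k j t (u * w) = f i l j (t * u) w := by
        intro k l a1 a2 b1 b2 hkl t u w
        have hE : p ⁅(L k l u)⁻¹, L i k t⁆ = p (L i l (t * u)) := by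
          rw [map_commutatorElement, map_inv, hL, hL, hL, stRel_slX.neg hkl,
            ← commutatorElement_inv, x_prod a1 hkl b1, stRel_slX.neg b1]
          congr 1; ring
        have hC : Commute (L k l u) ⁅⁅(L k l u)⁻¹, L i k t⁆, L l j w⁆ := by
          rw [comm_congr hc hE rfl]
          exact dz hkl h3 a2 b1.symm _ _ _ _ (hL _ _ _) (pf b1 b2 h3 _ _)
        calc f i k j t (u * w) = ⁅L i k t, ⁅L k l u, L l j w⁆⁆ :=
              comm_congr hc rfl (by rw [map_commutatorElement, hL, hL, hL, x_prod hkl b2 a2])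
          _ = ⁅⁅(L k l u)⁻¹, L i k t⁆, L l j w⁆ :=
              commute_transfer (dz a1 b2 h3 hkl t w _ _ (hL _ _ _) (hL _ _ _)) hC
          _ = f i l j (t * u) w := comm_congr hc hE rfl
      obtain ⟨l, hli, hlj, hlk⟩ := exists_fresh₃ h4 i j k
      have e1 := swap h1 h2 hli.symm hlj hlk.symm t u 1
      have e2 := swap h1 h2 hli.symm hlj hlk.symm (t * u) 1 1
      rw [mul_one] at e1
      rw [mul_one, mul_one] at e2
      rw [e1, e2]
  have indep : ∀ {i k l j}, i ≠ k → k ≠ j → i ≠ l → l ≠ j → i ≠ j → ∀ t,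
      f i k j t 1 = f i l j t 1 := by
    intro i k l j a1 a2 b1 b2 h3 t
    by_cases hkl : k = l
    · rw [hkl]
    have h4 : 4 ≤ n := by
      have hcard : ({i, j, k, l} : Finset (Fin n)).card ≤ n :=
        le_of_le_of_eq (Finset.card_le_univ _) (Fintype.card_fin n)
      rw [Finset.card_insert_of_notMem (by simp [h3, a1, b1]),
        Finset.card_insert_of_notMem (by simp [a2.symm, b2.symm]), Finset.card_pair hkl] at hcard
      omega
    have hE : p ⁅(L k l 1)⁻¹, L i k t⁆ = p (L i l t) := by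
      rw [map_commutatorElement, map_inv, hL, hL, hL, stRel_slX.neg hkl,
        ← commutatorElement_inv, x_prod a1 hkl b1, stRel_slX.neg b1]
      congr 1; ring
    have hC : Commute (L k l 1) ⁅⁅(L k l 1)⁻¹, L i k t⁆, L l j 1⁆ := by
      rw [comm_congr hc hE rfl]
      exact dz hkl h3 a2 b1.symm _ _ _ _ (hL _ _ _) (pf b1 b2 h3 _ _)
    calc f i k j t 1 = ⁅L i k t, ⁅L k l 1, L l j 1⁆⁆ :=
          comm_congr hc rfl (by rw [map_commutatorElement, hL, hL, hL, x_prod hkl b2 a2, mul_one])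
      _ = ⁅⁅(L k l 1)⁻¹, L i k t⁆, L l j 1⁆ :=
          commute_transfer (dz a1 b2 h3 hkl t 1 _ _ (hL _ _ _) (hL _ _ _)) hC
      _ = f i l j t 1 := comm_congr hc hE rfl
  let Y : Fin n → Fin n → F → P := fun i j t => f i (exists_fresh hn i j).choose j t 1
  have hY : ∀ {i j}, i ≠ j → ∀ t, p (Y i j t) = x_ i j t := by
    intro i j h t
    obtain ⟨h1, h2⟩ := (exists_fresh hn i j).choose_spec
    rw [pf h1.symm h2 h, mul_one]
  have R : StRel Y :=
    { add := fun {i j} h t u => by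
        obtain ⟨h1, h2⟩ := (exists_fresh hn i j).choose_spec
        exact fadd h1.symm h2 h t u 1
      comm := fun {i j k l} h1 h2 h3 h4 t u =>
        (dz h1 h2 h3 h4 t u _ _ (hY h1 t) (hY h2 u)).eq
      prod := fun {i j k} h1 h2 h3 t u => by
        obtain ⟨h5, h6⟩ := (exists_fresh hn i k).choose_spec
        rw [← commutatorElement_def, comm_congr hc ((hY h1 t).trans (hL i j t).symm)
          ((hY h2 u).trans (hL j k u).symm)]
        exact (assoc h1 h2 h3 t u).trans (indep h1 h2 h5.symm h6 h3 _) }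
  obtain ⟨s, hs⟩ := R.exists_hom hn
  exact ⟨s, sl_hom_ext fun i j h t => by
    rw [MonoidHom.comp_apply, hs i j h, hY h, slX_eq h]; rfl⟩

end CfsgLib.Lie.SLUniv
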